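import Cfsg.Agent.H94.BR.SpDefs
import Cfsg.Agent.H110.BR.SZ

/-!
# HUB BR, `Sp_4(2^f)`: the elements with `tr_W(y) = tr_V(y)^(2^j)` (helper124)
-/

set_option autoImplicit false
set_option maxHeartbeats 1600000

namespace Cfsg.Agent.H124.BR

open Cfsg.Agent.H883.BR Cfsg.Agent.H94.BR

section Cnt

variable {q : ℕ} {K : Type} [Field K] {F : Subfield K} {V : Type} [AddCommGroup V] [Module K V]
  {B : LinearMap.BilinForm K V} {G : Type} [Group G] {ρ : G →* Module.End K V}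
  {b : Module.Basis (Fin 2 ⊕ Fin 2) K V} {W : Type} [AddCommGroup W] [Module K W]
  {σ : G →* Module.End K W} {π : Lam0 B →ₗ[K] W}

local notation "e₁" => (Sum.inl (0 : Fin 2) : Fin 2 ⊕ Fin 2)
local notation "e₂" => (Sum.inl (1 : Fin 2) : Fin 2 ⊕ Fin 2)
local notation "f₁" => (Sum.inr (0 : Fin 2) : Fin 2 ⊕ Fin 2)
local notation "f₂" => (Sum.inr (1 : Fin 2) : Fin 2 ⊕ Fin 2)

/-- matrix coefficient -/
noncomputable def mc (ρ : G →* Module.End K V) (b : Module.Basis (Fin 2 ⊕ Fin 2) K V) (g : G) (i j : Fin 2 ⊕ Fin 2) : K :=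
  b.repr (ρ g (b j)) i

theorem two_eq_zero (h : SpD 2 q F B ρ b) : (2 : K) = 0 := by
  have := h.char
  exact CharTwo.two_eq_zero

theorem add_self (h : SpD 2 q F B ρ b) (x : K) : x + x = 0 := by
  rw [← two_mul, two_eq_zero h, zero_mul]

theorem neg_eq (h : SpD 2 q F B ρ b) (x : K) : -x = x := by
  have := add_self h x
  linear_combination -this

theorem vadd_self (h : SpD 2 q F B ρ b) (x : V) : x + x = 0 := by
  rw [← two_smul K, two_eq_zero h, zero_smul]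

theorem B_symm (h : SpD 2 q F B ρ b) (x y : V) : B x y = B y x := by
  have h1 := h.alt (x + y)
  simp only [map_add, LinearMap.add_apply, h.alt, zero_add, add_zero] at h1
  have h2 := add_self h (B y x)
  linear_combination h1 - h2

theorem B_rl (h : SpD 2 q F B ρ b) (i j : Fin 2) : B (b (Sum.inr i)) (b (Sum.inl j)) = if i = j then 1 else 0 := by
  rw [B_symm h, h.lr]
  simp only [eq_comm]

theorem repr_sum (x : V) : x = b.repr x e₁ • b e₁ + b.repr x e₂ • b e₂ + b.repr x f₁ • b f₁ + b.repr x f₂ • b f₂ := by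
  conv_lhs => rw [← b.sum_repr x]
  rw [Fintype.sum_sum_type, Fin.sum_univ_two, Fin.sum_univ_two]
  abel

/-- values of `B` on the basis -/
theorem B_tab (h : SpD 2 q F B ρ b) :
    B (b e₁) (b e₁) = 0 ∧ B (b e₁) (b e₂) = 0 ∧ B (b e₁) (b f₁) = 1 ∧ B (b e₁) (b f₂) = 0 ∧
    B (b e₂) (b e₁) = 0 ∧ B (b e₂) (b e₂) = 0 ∧ B (b e₂) (b f₁) = 0 ∧ B (b e₂) (b f₂) = 1 ∧
    B (b f₁) (b e₁) = 1 ∧ B (b f₁) (b e₂) = 0 ∧ B (b f₁) (b f₁) = 0 ∧ B (b f₁) (b f₂) = 0 ∧
    B (b f₂) (b e₁) = 0 ∧ B (b f₂) (b e₂) = 1 ∧ B (b f₂) (b f₁) = 0 ∧ B (b f₂) (b f₂) = 0 := by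
  refine ⟨h.ll _ _, h.ll _ _, ?_, ?_, h.ll _ _, h.ll _ _, ?_, ?_, ?_, ?_, h.rr _ _, h.rr _ _, ?_, ?_, h.rr _ _, h.rr _ _⟩
  all_goals first | rw [h.lr] | rw [B_rl h]
  all_goals simp

theorem B_form (h : SpD 2 q F B ρ b) (x y : V) : B x y = b.repr x e₁ * b.repr y f₁ + b.repr x f₁ * b.repr y e₁ +
    b.repr x e₂ * b.repr y f₂ + b.repr x f₂ * b.repr y e₂ := by
  obtain ⟨t1, t2, t3, t4, t5, t6, t7, t8, t9, t10, t11, t12, t13, t14, t15, t16⟩ := B_tab h
  conv_lhs => rw [repr_sum (b := b) x, repr_sum (b := b) y]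
  simp only [map_add, map_smul, LinearMap.add_apply, LinearMap.smul_apply, smul_eq_mul, t1, t2, t3, t4, t5, t6, t7, t8,
    t9, t10, t11, t12, t13, t14, t15, t16]
  ring

/-- the four pairs -/
def px : Fin 4 → Fin 2 ⊕ Fin 2 := ![e₁, e₁, e₂, f₁]

/-- the four pairs -/
def py : Fin 4 → Fin 2 ⊕ Fin 2 := ![e₂, f₂, f₁, f₂]

/-- the minors -/
noncomputable def mn (b : Module.Basis (Fin 2 ⊕ Fin 2) K V) (v w : V) (k : Fin 4) : K :=
  b.repr v (px k) * b.repr w (py k) + b.repr v (py k) * b.repr w (px k)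

theorem B_px_py (h : SpD 2 q F B ρ b) (k : Fin 4) : B (b (px k)) (b (py k)) = 0 := by
  obtain ⟨t1, t2, t3, t4, t5, t6, t7, t8, t9, t10, t11, t12, t13, t14, t15, t16⟩ := B_tab h
  fin_cases k
  · exact t2
  · exact t4
  · exact t7
  · exact t12

theorem wd_mem {v w : V} (hvw : B v w = 0) : wd B v w ∈ Lam0 B := Submodule.subset_span ⟨v, w, hvw, rfl⟩

/-- `wd v w` in terms of the minors -/
theorem wd_expand (h : SpD 2 q F B ρ b) (v w : V) (hvw : B v w = 0) :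
    wd B v w = ∑ k, mn b v w k • wd B (b (px k)) (b (py k)) +
      (b.repr v e₁ * b.repr w f₁ + b.repr v f₁ * b.repr w e₁) • (1 : Module.End K V) := by
  obtain ⟨t1, t2, t3, t4, t5, t6, t7, t8, t9, t10, t11, t12, t13, t14, t15, t16⟩ := B_tab h
  have h2 := two_eq_zero h
  have hB := B_form h v w
  rw [hvw] at hB
  refine b.ext fun i => ?_
  refine b.repr.injective ?_
  refine Finsupp.ext fun j => ?_
  rw [Fin.sum_univ_four]
  simp only [LinearMap.add_apply, LinearMap.smul_apply, Module.End.one_apply, wd_apply, mn, px, py, map_add, map_smul,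
    Finsupp.add_apply, Finsupp.smul_apply, smul_eq_mul]
  have c1 : ∀ x : V, B x (b e₁) = b.repr x f₁ := fun x => by rw [B_form h]; simp
  have c2 : ∀ x : V, B x (b e₂) = b.repr x f₂ := fun x => by rw [B_form h]; simp
  have c3 : ∀ x : V, B x (b f₁) = b.repr x e₁ := fun x => by rw [B_form h]; simp
  have c4 : ∀ x : V, B x (b f₂) = b.repr x e₂ := fun x => by rw [B_form h]; simp
  have hB' : b.repr v e₁ * b.repr w f₁ + b.repr v f₁ * b.repr w e₁ =
      b.repr v e₂ * b.repr w f₂ + b.repr v f₂ * b.repr w e₂ := by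
    linear_combination -hB + (-(b.repr v e₂ * b.repr w f₂ + b.repr v f₂ * b.repr w e₂)) * h2
  clear t1 t2 t3 t4 t5 t6 t7 t8 t9 t10 t11 t12 t13 t14 t15 t16 hB hvw
  rcases i with i | i <;> rcases j with j | j <;> fin_cases i <;> fin_cases j <;>
    simp [c1, c2, c3, c4] <;> first | ring1 | linear_combination hB' | linear_combination -hB' | (ring_nf; rw [h2, mul_zero])

/-- the basis vectors of `W` -/
noncomputable def om (h : SpD 2 q F B ρ b) (π : Lam0 B →ₗ[K] W) (k : Fin 4) : W :=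
  π ⟨wd B (b (px k)) (b (py k)), wd_mem (B_px_py h k)⟩

theorem pi_wd (h : SpD 2 q F B ρ b) (hW : WD B ρ σ π) (v w : V) (hvw : B v w = 0) :
    π ⟨wd B v w, wd_mem hvw⟩ = ∑ k, mn b v w k • om h π k := by
  have h1 : π (⟨wd B v w, wd_mem hvw⟩ -
      ∑ k, mn b v w k • (⟨wd B (b (px k)) (b (py k)), wd_mem (B_px_py h k)⟩ : Lam0 B)) = 0 := by
    refine (hW.ker _).2 ⟨b.repr v e₁ * b.repr w f₁ + b.repr v f₁ * b.repr w e₁, ?_⟩
    rw [Submodule.coe_sub, Submodule.coe_sum]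
    simp only [Submodule.coe_smul]
    rw [wd_expand h v w hvw, add_sub_cancel_left]
  rw [map_sub, sub_eq_zero, map_sum] at h1
  rw [h1]
  refine Finset.sum_congr rfl fun k _ => ?_
  rw [map_smul]
  rfl

theorem om_indep (h : SpD 2 q F B ρ b) (hW : WD B ρ σ π) : LinearIndependent K (om h π) := by
  obtain ⟨t1, t2, t3, t4, t5, t6, t7, t8, t9, t10, t11, t12, t13, t14, t15, t16⟩ := B_tab h
  rw [Fintype.linearIndependent_iff]
  intro c hc
  have h1 : π (∑ k, c k • (⟨wd B (b (px k)) (b (py k)), wd_mem (B_px_py h k)⟩ : Lam0 B)) = 0 := by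
    rw [map_sum, ← hc]
    refine Finset.sum_congr rfl fun k _ => ?_
    rw [map_smul]
    rfl
  obtain ⟨a, ha⟩ := (hW.ker _).1 h1
  rw [Submodule.coe_sum, Fin.sum_univ_four] at ha
  simp only [Submodule.coe_smul] at ha
  have h2 := fun x => congrArg (fun f : Module.End K V => f x) ha
  simp only [LinearMap.add_apply, LinearMap.smul_apply, Module.End.one_apply, wd_apply, px, py] at h2
  have k0 : c 0 = 0 := by
    have h3 := congrArg (fun x => b.repr x e₂) (h2 (b f₁))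
    simpa [t1, t2, t3, t4, t5, t6, t7, t8, t9, t10, t11, t12, t13, t14, t15, t16] using h3
  have k1 : c 1 = 0 := by
    have h3 := congrArg (fun x => b.repr x f₂) (h2 (b f₁))
    simpa [t1, t2, t3, t4, t5, t6, t7, t8, t9, t10, t11, t12, t13, t14, t15, t16] using h3
  have k2 : c 2 = 0 := by
    have h3 := congrArg (fun x => b.repr x e₂) (h2 (b e₁))
    simpa [t1, t2, t3, t4, t5, t6, t7, t8, t9, t10, t11, t12, t13, t14, t15, t16] using h3
  have k3 : c 3 = 0 := by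
    have h3 := congrArg (fun x => b.repr x f₂) (h2 (b e₁))
    simpa [t1, t2, t3, t4, t5, t6, t7, t8, t9, t10, t11, t12, t13, t14, t15, t16] using h3
  intro i
  fin_cases i
  · exact k0
  · exact k1
  · exact k2
  · exact k3

theorem om_span (h : SpD 2 q F B ρ b) (hW : WD B ρ σ π) : ⊤ ≤ Submodule.span K (Set.range (om h π)) := by
  have key : ∀ (X : Module.End K V) (hX : X ∈ Lam0 B), π ⟨X, hX⟩ ∈ Submodule.span K (Set.range (om h π)) := by
    intro X hX
    induction hX using Submodule.span_induction with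
    | mem x hx =>
      obtain ⟨v, w, hvw, rfl⟩ := hx
      rw [pi_wd h hW v w hvw]
      exact Submodule.sum_mem _ fun k _ => Submodule.smul_mem _ _ (Submodule.subset_span ⟨k, rfl⟩)
    | zero =>
      have : π ⟨0, Submodule.zero_mem _⟩ = 0 := map_zero π
      rw [this]
      exact Submodule.zero_mem _
    | add x y hx hy h1 h2 =>
      have : π ⟨x + y, Submodule.add_mem _ hx hy⟩ = π ⟨x, hx⟩ + π ⟨y, hy⟩ := by
        rw [← map_add]
        rfl
      rw [this]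
      exact Submodule.add_mem _ h1 h2
    | smul c x hx h1 =>
      have : π ⟨c • x, Submodule.smul_mem _ _ hx⟩ = c • π ⟨x, hx⟩ := by
        rw [← map_smul]
        rfl
      rw [this]
      exact Submodule.smul_mem _ _ h1
  rintro w -
  obtain ⟨⟨X, hX⟩, rfl⟩ := hW.surj w
  exact key X hX

theorem ad_wd (h : SpD 2 q F B ρ b) (g : G) (x y : V) : ad ρ g (wd B x y) = wd B (ρ g x) (ρ g y) := by
  refine LinearMap.ext fun z => ?_
  rw [ad_apply, Module.End.mul_apply, Module.End.mul_apply, wd_apply, wd_apply, map_add, map_smul, map_smul]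
  have h1 : ∀ u, B u (ρ g⁻¹ z) = B (ρ g u) z := by
    intro u
    rw [← h.iso g u (ρ g⁻¹ z), ← Module.End.mul_apply, ← map_mul, mul_inv_cancel, map_one, Module.End.one_apply]
  rw [h1, h1]

/-- **the trace on `W`** -/
theorem trace_W (h : SpD 2 q F B ρ b) (hW : WD B ρ σ π) (g : G) :
    LinearMap.trace K W (σ g) = ∑ k, mn b (ρ g (b (px k))) (ρ g (b (py k))) k := by
  classical
  let bw : Module.Basis (Fin 4) K W := Module.Basis.mk (om_indep h hW) (om_span h hW)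
  rw [LinearMap.trace_eq_matrix_trace K bw, Matrix.trace]
  refine Finset.sum_congr rfl fun k _ => ?_
  rw [Matrix.diag_apply, LinearMap.toMatrix_apply]
  have hb : ∀ k, bw k = om h π k := fun k => Module.Basis.mk_apply _ _ _
  have h0 : B (ρ g (b (px k))) (ρ g (b (py k))) = 0 := by rw [h.iso, B_px_py h]
  have h1 : σ g (bw k) = ∑ l, mn b (ρ g (b (px k))) (ρ g (b (py k))) l • bw l := by
    simp only [hb]
    rw [← pi_wd h hW _ _ h0, om, ← hW.eqv g _ ⟨wd B (ρ g (b (px k))) (ρ g (b (py k))), wd_mem h0⟩ (ad_wd h g _ _).symm]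
  rw [h1, map_sum, Finsupp.finsetSum_apply, Finset.sum_eq_single k]
  · rw [map_smul, Finsupp.smul_apply, Module.Basis.repr_self, Finsupp.single_eq_same, smul_eq_mul, mul_one]
  · intro l _ hl
    rw [map_smul, Finsupp.smul_apply, Module.Basis.repr_self, Finsupp.single_eq_of_ne (Ne.symm hl), smul_zero]
  · intro hk
    exact absurd (Finset.mem_univ k) hk

theorem trace_V (g : G) : LinearMap.trace K V (ρ g) = mc ρ b g e₁ e₁ + mc ρ b g e₂ e₂ + mc ρ b g f₁ f₁ + mc ρ b g f₂ f₂ := by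
  classical
  rw [LinearMap.trace_eq_matrix_trace K b, Matrix.trace, Fintype.sum_sum_type, Fin.sum_univ_two, Fin.sum_univ_two]
  simp only [Matrix.diag_apply, LinearMap.toMatrix_apply, mc]
  ring

theorem mc_mul_of {g k : G} {j l : Fin 2 ⊕ Fin 2} {s : K} (hk : ρ k (b j) = b j + s • b l) (i : Fin 2 ⊕ Fin 2) :
    mc ρ b (g * k) i j = mc ρ b g i j + s * mc ρ b g i l := by
  rw [mc, map_mul, Module.End.mul_apply, hk, map_add, map_add, map_smul, map_smul, Finsupp.add_apply,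
    Finsupp.smul_apply, smul_eq_mul]
  rfl

theorem mc_mul_fix {g k : G} {j : Fin 2 ⊕ Fin 2} (hk : ρ k (b j) = b j) (i : Fin 2 ⊕ Fin 2) :
    mc ρ b (g * k) i j = mc ρ b g i j := by
  rw [mc, map_mul, Module.End.mul_apply, hk]
  rfl

theorem exists_tv (h : SpD 2 q F B ρ b) (v : V) (hv : ∀ i, b.repr v i ∈ F) (s : F) :
    ∃ g : G, ρ g = 1 + (s : K) • sq B v := by
  have := h.finF
  have := h.char
  have h2 : CharP F 2 := F.subtype.charP F.subtype.injective 2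
  obtain ⟨r, hr⟩ := FiniteField.isSquare_of_char_two (ringChar.eq F 2) s
  obtain ⟨g, hg⟩ := h.tv ((r : K) • v) fun i => by
    rw [map_smul, Finsupp.smul_apply, smul_eq_mul]
    exact F.mul_mem r.2 (hv i)
  refine ⟨g, ?_⟩
  rw [hg]
  congr 1
  refine LinearMap.ext fun x => ?_
  rw [LinearMap.smul_apply, sq_apply, sq_apply, map_smul, LinearMap.smul_apply, smul_smul, smul_smul, hr, smul_eq_mul]
  congr 1
  push_cast
  ring

theorem exists_u (h : SpD 2 q F B ρ b) (s t : F) : ∃ u : G, ρ u (b e₁) = b e₁ ∧ ρ u (b e₂) = b e₂ ∧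
    ρ u (b f₁) = b f₁ + (s : K) • b e₁ ∧ ρ u (b f₂) = b f₂ + (t : K) • b e₂ := by
  obtain ⟨t1, t2, t3, t4, t5, t6, t7, t8, t9, t10, t11, t12, t13, t14, t15, t16⟩ := B_tab h
  have hbr : ∀ i j, b.repr (b i) j ∈ F := by
    intro i j
    rw [b.repr_self, Finsupp.single_apply]
    split_ifs
    · exact F.one_mem
    · exact F.zero_mem
  obtain ⟨g1, h1⟩ := exists_tv h (b e₁) (hbr _) s
  obtain ⟨g2, h2⟩ := exists_tv h (b e₂) (hbr _) t
  refine ⟨g1 * g2, ?_, ?_, ?_, ?_⟩ <;>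
    simp [map_mul, Module.End.mul_apply, h1, h2, sq_apply, t1, t2, t3, t4, t5, t6, t7, t8]

end Cnt

section Sz

variable {q : ℕ} {K : Type} [Field K] {F : Subfield K} {V : Type} [AddCommGroup V] [Module K V]
  {B : LinearMap.BilinForm K V} {G : Type} [Group G] {ρ : G →* Module.End K V}
  {b : Module.Basis (Fin 2 ⊕ Fin 2) K V}

/-- products of two matrix coefficients -/
noncomputable def mc2 (ρ : G →* Module.End K V) (b : Module.Basis (Fin 2 ⊕ Fin 2) K V)
    (w : ((Fin 2 ⊕ Fin 2) × (Fin 2 ⊕ Fin 2)) × ((Fin 2 ⊕ Fin 2) × (Fin 2 ⊕ Fin 2))) (g : G) : K :=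
  mc ρ b g w.1.1 w.1.2 * mc ρ b g w.2.1 w.2.2

theorem mc_mul (g k : G) (i j : Fin 2 ⊕ Fin 2) : mc ρ b (g * k) i j = ∑ l, mc ρ b g i l * mc ρ b k l j := by
  rw [mc, map_mul, Module.End.mul_apply]
  conv_lhs => rw [← b.sum_repr (ρ k (b j))]
  rw [map_sum, map_sum, Finsupp.finsetSum_apply]
  refine Finset.sum_congr rfl fun l _ => ?_
  rw [map_smul, map_smul, Finsupp.smul_apply, smul_eq_mul, mul_comm]
  rfl

/-- **Schwartz-Zippel** for forms of degree two in the matrix coefficients -/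
theorem sz2 (h : SpD 2 q F B ρ b) {f : G → K} (hf : f ∈ Submodule.span K (Set.range (mc2 ρ b)))
    (hf0 : ∃ g, f g ≠ 0) : q * Nat.card {g : G // f g = 0} ≤ 512 * Nat.card G := by
  classical
  have := h.finF
  have := h.finG
  have hex : ∀ (v : {v : V // ∀ i, b.repr v i ∈ F}) (s : F), ∃ g : G, ρ g = 1 + (s : K) • sq B v.1 :=
    fun v s => exists_tv h v.1 v.2 s
  choose x hx using hex
  have hsq : ∀ v : V, sq B v * sq B v = 0 := by
    intro v
    refine LinearMap.ext fun y => ?_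
    rw [Module.End.mul_apply, sq_apply, sq_apply, map_smul, h.alt]
    simp
  have hadd : ∀ v s t, x v (s + t) = x v s * x v t := by
    intro v s t
    apply h.inj
    rw [map_mul, hx, hx, hx, mul_add, add_mul, add_mul, smul_mul_smul_comm, hsq, smul_zero, add_zero, one_mul, mul_one,
      one_mul]
    push_cast
    rw [add_smul]
    abel
  have hgen : Subgroup.closure {g | ∃ v s, g = x v s} = ⊤ := by
    rw [eq_top_iff, ← h.gen]
    refine Subgroup.closure_mono ?_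
    rintro g ⟨v, hv, hg⟩
    refine ⟨⟨v, hv⟩, 1, h.inj ?_⟩
    rw [hx, hg]
    simp
  set P : Submodule K (G → K) := Submodule.span K (Set.range (mc2 ρ b)) with hP
  have hfr : Module.finrank K P ≤ 256 := by
    refine (finrank_range_le_card _).trans ?_
    simp
  have hinv : ∀ f ∈ P, ∀ v s, (fun g => f (g * x v s)) ∈ P := by
    intro f hf v s
    induction hf using Submodule.span_induction with
    | mem y hy =>
      obtain ⟨w, rfl⟩ := hy
      have e : (fun g => mc2 ρ b w (g * x v s)) = ∑ l, ∑ l', (mc ρ b (x v s) l w.1.2 * mc ρ b (x v s) l' w.2.2) •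
          mc2 ρ b ((w.1.1, l), (w.2.1, l')) := by
        funext g
        rw [Finset.sum_apply]
        simp only [Finset.sum_apply, Pi.smul_apply, smul_eq_mul, mc2]
        rw [mc_mul, mc_mul, Finset.sum_mul_sum]
        refine Finset.sum_congr rfl fun l _ => Finset.sum_congr rfl fun l' _ => ?_
        ring
      rw [e]
      exact Submodule.sum_mem _ fun l _ => Submodule.sum_mem _ fun l' _ => Submodule.smul_mem _ _
        (Submodule.subset_span ⟨_, rfl⟩)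
    | zero => exact Submodule.zero_mem _
    | add y z _ _ h1 h2 => exact Submodule.add_mem _ h1 h2
    | smul c y _ h1 => exact Submodule.smul_mem _ c h1
  have hpoly : ∀ f ∈ P, ∀ g v, ∃ p : Polynomial K, p.natDegree ≤ 2 ∧ ∀ t : F, f (g * x v t) = p.eval (t : K) := by
    intro f hf g v
    induction hf using Submodule.span_induction with
    | mem y hy =>
      obtain ⟨w, rfl⟩ := hy
      have hm : ∀ i j (t : F), mc ρ b (g * x v t) i j = mc ρ b g i j + t * b.repr ((ρ g * sq B v.1) (b j)) i := by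
        intro i j t
        rw [mc, map_mul, hx, mul_add, mul_one, mul_smul_comm, LinearMap.add_apply, LinearMap.smul_apply, map_add,
          map_smul, Finsupp.add_apply, Finsupp.smul_apply, smul_eq_mul]
        rfl
      refine ⟨Polynomial.C (b.repr ((ρ g * sq B v.1) (b w.1.2)) w.1.1 * b.repr ((ρ g * sq B v.1) (b w.2.2)) w.2.1) *
        Polynomial.X ^ 2 + Polynomial.C (mc ρ b g w.1.1 w.1.2 * b.repr ((ρ g * sq B v.1) (b w.2.2)) w.2.1 +
          mc ρ b g w.2.1 w.2.2 * b.repr ((ρ g * sq B v.1) (b w.1.2)) w.1.1) * Polynomial.X +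
        Polynomial.C (mc ρ b g w.1.1 w.1.2 * mc ρ b g w.2.1 w.2.2), Polynomial.natDegree_quadratic_le, fun t => ?_⟩
      rw [mc2, hm, hm]
      simp only [Polynomial.eval_add, Polynomial.eval_mul, Polynomial.eval_C, Polynomial.eval_pow, Polynomial.eval_X]
      ring
    | zero => exact ⟨0, by simp, fun t => by simp⟩
    | add y z _ _ h1 h2 =>
      obtain ⟨p1, d1, e1⟩ := h1
      obtain ⟨p2, d2, e2⟩ := h2
      exact ⟨p1 + p2, (Polynomial.natDegree_add_le _ _).trans (max_le d1 d2), fun t => by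
        rw [Pi.add_apply, e1, e2, Polynomial.eval_add]⟩
    | smul c y _ h1 =>
      obtain ⟨p1, d1, e1⟩ := h1
      exact ⟨Polynomial.C c * p1, (Polynomial.natDegree_C_mul_le _ _).trans d1, fun t => by
        rw [Pi.smul_apply, e1, Polynomial.eval_mul, Polynomial.eval_C, smul_eq_mul]⟩
  have h1 := Cfsg.Agent.H110.BR.sz F hadd hgen hinv hpoly hf hf0
  rw [h.cardF] at h1
  refine h1.trans (Nat.mul_le_mul_right _ ?_)
  omega

end Sz

section Count

variable {K : Type} [Field K]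

theorem two_sols {F : Subfield K} [Finite F] {τ α δ c0 c1 c2 c3 : K} (hα : α ≠ 0) (hδ : δ ≠ 0) (h3 : c3 ≠ 0) (a c : K) :
    {z : F × F | τ + α * z.1 + δ * z.2 = a ∧ c0 + c1 * z.1 + c2 * z.2 + c3 * (z.1 * z.2) = c}.ncard ≤ 2 := by
  set p : Polynomial K := Polynomial.C (-(c3 * δ)) * Polynomial.X ^ 2 +
    Polynomial.C (-(c1 * δ) + α * c2 + c3 * (a - τ)) * Polynomial.X +
    Polynomial.C (α * c0 + c1 * (a - τ) - α * c) with hp
  have hp0 : p ≠ 0 := by
    intro h0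
    have h1 : p.coeff 2 = -(c3 * δ) := by
      rw [hp, Polynomial.coeff_add, Polynomial.coeff_add, Polynomial.coeff_C_mul_X_pow, Polynomial.coeff_C_mul_X,
        Polynomial.coeff_C]
      simp
    rw [h0, Polynomial.coeff_zero] at h1
    exact mul_ne_zero h3 hδ (neg_eq_zero.1 h1.symm)
  have hdeg : p.natDegree ≤ 2 := Polynomial.natDegree_quadratic_le
  refine le_trans ?_ (Cfsg.Agent.H110.BR.card_roots_le F hp0 hdeg)
  refine Set.ncard_le_ncard_of_injOn (fun z => z.2) ?_ ?_ (Set.toFinite _)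
  · rintro ⟨s, t⟩ ⟨h1, h2⟩
    change p.eval (t : K) = 0
    rw [hp]
    simp only [Polynomial.eval_add, Polynomial.eval_mul, Polynomial.eval_C, Polynomial.eval_pow, Polynomial.eval_X]
    simp only at h1 h2
    linear_combination (-(c1 + c3 * (t : K))) * h1 + α * h2
  · rintro ⟨s, t⟩ ⟨h1, h2⟩ ⟨s', t'⟩ ⟨h1', h2'⟩ e
    simp only at e h1 h1'
    subst e
    rw [Prod.mk.injEq]
    refine ⟨Subtype.ext (mul_left_cancel₀ hα ?_), rfl⟩
    linear_combination h1 - h1'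

theorem bad_pairs {F : Subfield K} [Finite F] {f : ℕ} (hf : 0 < f) (hq : Nat.card F = 2 ^ f)
    {τ α δ c0 c1 c2 c3 : K} (hτF : τ ∈ F) (hαF : α ∈ F) (hδF : δ ∈ F)
    (hα : α ≠ 0) (hδ : δ ≠ 0) (h3 : c3 ≠ 0) :
    {z : F × F | ∃ j : ℕ, c0 + c1 * z.1 + c2 * z.2 + c3 * (z.1 * z.2) = (τ + α * z.1 + δ * z.2) ^ 2 ^ j}.ncard ≤
      2 * (f * 2 ^ f) := by
  classical
  have := Fintype.ofFinite F
  have hpow : ∀ (a : F) (j : ℕ), a ^ 2 ^ j = a ^ 2 ^ (j % f) := by
    intro a j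
    have h1 : ∀ m : ℕ, a ^ 2 ^ (f * m) = a := by
      intro m
      induction m with
      | zero => simp
      | succ m ih =>
        rw [mul_add, mul_one, pow_add, pow_mul, ih, ← hq, Nat.card_eq_fintype_card, FiniteField.pow_card]
    conv_lhs => rw [← Nat.div_add_mod j f, pow_add, pow_mul, h1]
  let S : F × Fin f → Set (F × F) := fun x =>
    {z : F × F | τ + α * z.1 + δ * z.2 = (x.1 : K) ∧ c0 + c1 * z.1 + c2 * z.2 + c3 * (z.1 * z.2) = (x.1 : K) ^ 2 ^ (x.2 : ℕ)}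
  have hsub : {z : F × F | ∃ j : ℕ, c0 + c1 * z.1 + c2 * z.2 + c3 * (z.1 * z.2) = (τ + α * z.1 + δ * z.2) ^ 2 ^ j} ⊆
      ⋃ x, S x := by
    rintro z ⟨j, hj⟩
    have hm : τ + α * z.1 + δ * z.2 ∈ F := F.add_mem (F.add_mem hτF (F.mul_mem hαF z.1.2)) (F.mul_mem hδF z.2.2)
    rw [Set.mem_iUnion]
    refine ⟨(⟨_, hm⟩, ⟨j % f, Nat.mod_lt _ hf⟩), rfl, ?_⟩
    rw [hj]
    have h4 := hpow ⟨_, hm⟩ j
    exact congrArg Subtype.val h4
  refine (Set.ncard_le_ncard hsub (Set.toFinite _)).trans ((Set.ncard_iUnion_le_of_fintype _).trans ?_)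
  refine (Finset.sum_le_card_nsmul _ _ 2 fun x _ => two_sols hα hδ h3 _ _).trans ?_
  rw [Finset.card_univ, Fintype.card_prod, Fintype.card_fin, ← Nat.card_eq_fintype_card (α := F), hq, smul_eq_mul]
  exact le_of_eq (by ring)

end Count

section Final

variable {q : ℕ} {K : Type} [Field K] {F : Subfield K} {V : Type} [AddCommGroup V] [Module K V]
  {B : LinearMap.BilinForm K V} {G : Type} [Group G] {ρ : G →* Module.End K V}
  {b : Module.Basis (Fin 2 ⊕ Fin 2) K V} {W : Type} [AddCommGroup W] [Module K W]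
  {σ : G →* Module.End K W} {π : Lam0 B →ₗ[K] W}

local notation "e₁" => (Sum.inl (0 : Fin 2) : Fin 2 ⊕ Fin 2)
local notation "e₂" => (Sum.inl (1 : Fin 2) : Fin 2 ⊕ Fin 2)
local notation "f₁" => (Sum.inr (0 : Fin 2) : Fin 2 ⊕ Fin 2)
local notation "f₂" => (Sum.inr (1 : Fin 2) : Fin 2 ⊕ Fin 2)

/-- degenerate elements -/
def Dg (ρ : G →* Module.End K V) (b : Module.Basis (Fin 2 ⊕ Fin 2) K V) (g : G) : Prop :=
  mc ρ b g f₁ e₁ = 0 ∨ mc ρ b g f₂ e₂ = 0 ∨
    mc ρ b g f₁ e₁ * mc ρ b g f₂ e₂ + mc ρ b g f₁ e₂ * mc ρ b g f₂ e₁ = 0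

theorem exists_nondeg (h : SpD 2 q F B ρ b) : ∃ g, mc ρ b g f₁ e₁ = 1 ∧ mc ρ b g f₂ e₂ = 1 ∧ mc ρ b g f₁ e₂ = 0 := by
  obtain ⟨t1, t2, t3, t4, t5, t6, t7, t8, t9, t10, t11, t12, t13, t14, t15, t16⟩ := B_tab h
  have hbr : ∀ i j, b.repr (b i) j ∈ F := by
    intro i j
    rw [b.repr_self, Finsupp.single_apply]
    split_ifs
    · exact F.one_mem
    · exact F.zero_mem
  obtain ⟨g1, h1⟩ := h.tv (b e₁ + b f₁) fun i => by
    rw [map_add, Finsupp.add_apply]; exact F.add_mem (hbr _ _) (hbr _ _)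
  obtain ⟨g2, h2⟩ := h.tv (b e₂ + b f₂) fun i => by
    rw [map_add, Finsupp.add_apply]; exact F.add_mem (hbr _ _) (hbr _ _)
  refine ⟨g1 * g2, ?_, ?_, ?_⟩ <;>
    simp [mc, map_mul, Module.End.mul_apply, h1, h2, sq_apply, t1, t2, t4, t5, t6, t9, t10, t12, t13, t14]

theorem card_or' {X : Type} [Finite X] (P Q : X → Prop) :
    Nat.card {x // P x ∨ Q x} ≤ Nat.card {x // P x} + Nat.card {x // Q x} := Set.ncard_union_le {x | P x} {x | Q x}

theorem card_mono' {X : Type} [Finite X] {P Q : X → Prop} (h : ∀ x, P x → Q x) :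
    Nat.card {x // P x} ≤ Nat.card {x // Q x} :=
  Set.ncard_le_ncard (s := {x | P x}) (t := {x | Q x}) h (Set.toFinite _)

theorem card_Dg (h : SpD 2 q F B ρ b) : q * Nat.card {g : G // Dg ρ b g} ≤ 1536 * Nat.card G := by
  have := h.finG
  obtain ⟨g0, hg1, hg2, hg3⟩ := exists_nondeg h
  have h1 := sz2 h (f := mc2 ρ b ((f₁, e₁), (f₁, e₁))) (Submodule.subset_span ⟨_, rfl⟩)
    ⟨g0, by rw [mc2, hg1]; simp⟩
  have h2 := sz2 h (f := mc2 ρ b ((f₂, e₂), (f₂, e₂))) (Submodule.subset_span ⟨_, rfl⟩)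
    ⟨g0, by rw [mc2, hg2]; simp⟩
  have h3 := sz2 h (f := mc2 ρ b ((f₁, e₁), (f₂, e₂)) + mc2 ρ b ((f₁, e₂), (f₂, e₁)))
    (Submodule.add_mem _ (Submodule.subset_span ⟨_, rfl⟩) (Submodule.subset_span ⟨_, rfl⟩))
    ⟨g0, by rw [Pi.add_apply, mc2, mc2]; simp only; rw [hg1, hg2, hg3]; simp⟩
  have h4 : Nat.card {g : G // Dg ρ b g} ≤ Nat.card {g : G // mc2 ρ b ((f₁, e₁), (f₁, e₁)) g = 0} +
      (Nat.card {g : G // mc2 ρ b ((f₂, e₂), (f₂, e₂)) g = 0} +
        Nat.card {g : G // (mc2 ρ b ((f₁, e₁), (f₂, e₂)) + mc2 ρ b ((f₁, e₂), (f₂, e₁))) g = 0}) := by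
    refine le_trans (card_mono' ?_) ((card_or' _ _).trans (Nat.add_le_add_left (card_or' _ _) _))
    rintro g (hg | hg | hg)
    · left
      rw [mc2, hg, zero_mul]
    · right; left
      rw [mc2, hg, zero_mul]
    · right; right
      exact hg
  calc q * Nat.card {g : G // Dg ρ b g} ≤ q * _ := Nat.mul_le_mul_left _ h4
    _ = q * Nat.card {g : G // mc2 ρ b ((f₁, e₁), (f₁, e₁)) g = 0} +
      (q * Nat.card {g : G // mc2 ρ b ((f₂, e₂), (f₂, e₂)) g = 0} +
        q * Nat.card {g : G // (mc2 ρ b ((f₁, e₁), (f₂, e₂)) + mc2 ρ b ((f₁, e₂), (f₂, e₁))) g = 0}) := by ring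
    _ ≤ 512 * Nat.card G + (512 * Nat.card G + 512 * Nat.card G) := Nat.add_le_add h1 (Nat.add_le_add h2 h3)
    _ = _ := by ring

/-- the bad elements -/
def Bd (ρ : G →* Module.End K V) (σ : G →* Module.End K W) (y : G) : Prop :=
  ∃ j : ℕ, LinearMap.trace K W (σ y) = (LinearMap.trace K V (ρ y)) ^ 2 ^ j

theorem mc_mem (h : SpD 2 q F B ρ b) (g : G) (i j : Fin 2 ⊕ Fin 2) : mc ρ b g i j ∈ F := h.rat g i j

/-- the bad elements in `y u(s,t)`, `y` not degenerate -/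
theorem bad_u (h : SpD 2 q F B ρ b) (hW : WD B ρ σ π) {f : ℕ} (hf : 0 < f) (hq : q = 2 ^ f) {u : F → F → G}
    (hu : ∀ s t, ρ (u s t) (b e₁) = b e₁ ∧ ρ (u s t) (b e₂) = b e₂ ∧
      ρ (u s t) (b f₁) = b f₁ + (s : K) • b e₁ ∧ ρ (u s t) (b f₂) = b f₂ + (t : K) • b e₂)
    (y : G) (hy : ¬ Dg ρ b y) : {z : F × F | Bd ρ σ (y * u z.1 z.2)}.ncard ≤ 2 * (f * 2 ^ f) := by
  have := h.finF
  rw [Dg, not_or, not_or] at hy
  obtain ⟨hy1, hy2, hy3⟩ := hy
  have hh := bad_pairs (F := F) hf (h.cardF.trans hq) (τ := LinearMap.trace K V (ρ y))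
    (α := mc ρ b y f₁ e₁) (δ := mc ρ b y f₂ e₂) (c0 := LinearMap.trace K W (σ y))
    (c1 := mc ρ b y e₂ e₂ * mc ρ b y f₁ e₁ + mc ρ b y f₁ e₂ * mc ρ b y e₂ e₁ +
      mc ρ b y f₁ e₁ * mc ρ b y f₂ f₂ + mc ρ b y f₂ e₁ * mc ρ b y f₁ f₂)
    (c2 := mc ρ b y e₁ e₁ * mc ρ b y f₂ e₂ + mc ρ b y f₂ e₁ * mc ρ b y e₁ e₂ +
      mc ρ b y f₁ f₁ * mc ρ b y f₂ e₂ + mc ρ b y f₂ f₁ * mc ρ b y f₁ e₂)
    (by
      rw [trace_V (b := b)]
      exact F.add_mem (F.add_mem (F.add_mem (mc_mem h _ _ _) (mc_mem h _ _ _)) (mc_mem h _ _ _)) (mc_mem h _ _ _))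
    (mc_mem h _ _ _) (mc_mem h _ _ _) hy1 hy2 hy3
  refine le_trans (Set.ncard_le_ncard ?_ (Set.toFinite _)) hh
  rintro ⟨s, t⟩ ⟨j, hj⟩
  refine ⟨j, ?_⟩
  obtain ⟨u1, u2, u3, u4⟩ := hu s t
  have m1 : ∀ i, mc ρ b (y * u s t) i e₁ = mc ρ b y i e₁ := fun i => mc_mul_fix u1 i
  have m2 : ∀ i, mc ρ b (y * u s t) i e₂ = mc ρ b y i e₂ := fun i => mc_mul_fix u2 i
  have m3 : ∀ i, mc ρ b (y * u s t) i f₁ = mc ρ b y i f₁ + s * mc ρ b y i e₁ := fun i => mc_mul_of u3 i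
  have m4 : ∀ i, mc ρ b (y * u s t) i f₂ = mc ρ b y i f₂ + t * mc ρ b y i e₂ := fun i => mc_mul_of u4 i
  have hV : LinearMap.trace K V (ρ (y * u s t)) =
      LinearMap.trace K V (ρ y) + mc ρ b y f₁ e₁ * s + mc ρ b y f₂ e₂ * t := by
    rw [trace_V (b := b), trace_V (b := b), m1, m2, m3, m4]
    ring
  have hWt : ∀ g, LinearMap.trace K W (σ g) =
      (mc ρ b g e₁ e₁ * mc ρ b g e₂ e₂ + mc ρ b g e₂ e₁ * mc ρ b g e₁ e₂) +
      (mc ρ b g e₁ e₁ * mc ρ b g f₂ f₂ + mc ρ b g f₂ e₁ * mc ρ b g e₁ f₂) +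
      (mc ρ b g e₂ e₂ * mc ρ b g f₁ f₁ + mc ρ b g f₁ e₂ * mc ρ b g e₂ f₁) +
      (mc ρ b g f₁ f₁ * mc ρ b g f₂ f₂ + mc ρ b g f₂ f₁ * mc ρ b g f₁ f₂) := by
    intro g
    rw [trace_W h hW, Fin.sum_univ_four]
    rfl
  rw [hV, hWt, m1, m1, m1, m2, m2, m2, m3, m3, m3, m4, m4, m4] at hj
  rw [← hj, hWt]
  ring

theorem card_sigma_le {X Z : Type} [Finite X] [Finite Z] (P : X → Z → Prop) (n : ℕ)
    (hP : ∀ x, {z | P x z}.ncard ≤ n) : Nat.card {w : X × Z // P w.1 w.2} ≤ Nat.card X * n := by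
  classical
  have := Fintype.ofFinite X
  rw [Nat.card_congr (Equiv.subtypeProdEquivSigmaSubtype P), Nat.card_sigma]
  refine (Finset.sum_le_card_nsmul _ _ n fun x _ => hP x).trans ?_
  rw [Finset.card_univ, ← Nat.card_eq_fintype_card, smul_eq_mul]

theorem card_bad_le (h : SpD 2 q F B ρ b) (hW : WD B ρ σ π) {f : ℕ} (hf : 0 < f) (hq : q = 2 ^ f) :
    q * Nat.card {y : G // Bd ρ σ y} ≤ (1536 + 2 * f) * Nat.card G := by
  have := h.finF
  have := h.finG
  choose u hu using fun s t => exists_u h s t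
  have hZ : Nat.card (F × F) = q * q := by rw [Nat.card_prod, h.cardF]
  have h1 : Nat.card {w : G × (F × F) // Bd ρ σ (w.1 * u w.2.1 w.2.2)} = Nat.card {y : G // Bd ρ σ y} * (q * q) := by
    rw [← hZ, ← Nat.card_prod]
    exact Nat.card_congr
      { toFun := fun w => (⟨w.1.1 * u w.1.2.1 w.1.2.2, w.2⟩, w.1.2)
        invFun := fun w => ⟨(w.1.1 * (u w.2.1 w.2.2)⁻¹, w.2), by simpa using w.1.2⟩
        left_inv := fun w => by
          apply Subtype.ext
          simp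
        right_inv := fun w => by
          apply Prod.ext
          · apply Subtype.ext
            simp
          · rfl }
  have h2 : Nat.card {w : G × (F × F) // Bd ρ σ (w.1 * u w.2.1 w.2.2)} ≤
      Nat.card {w : G × (F × F) // Dg ρ b w.1} +
      Nat.card {w : G × (F × F) // ¬ Dg ρ b w.1 ∧ Bd ρ σ (w.1 * u w.2.1 w.2.2)} := by
    refine le_trans (card_mono' ?_) (card_or' _ _)
    intro w hw
    by_cases hd : Dg ρ b w.1
    · exact Or.inl hd
    · exact Or.inr ⟨hd, hw⟩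
  have h3 : Nat.card {w : G × (F × F) // Dg ρ b w.1} = Nat.card {y : G // Dg ρ b y} * (q * q) := by
    rw [← hZ, ← Nat.card_prod]
    exact Nat.card_congr
      { toFun := fun w => (⟨w.1.1, w.2⟩, w.1.2)
        invFun := fun w => ⟨(w.1.1, w.2), w.1.2⟩
        left_inv := fun w => rfl
        right_inv := fun w => rfl }
  have h4 : Nat.card {w : G × (F × F) // ¬ Dg ρ b w.1 ∧ Bd ρ σ (w.1 * u w.2.1 w.2.2)} ≤
      Nat.card G * (2 * (f * q)) := by
    refine card_sigma_le (fun (y : G) (z : F × F) => ¬ Dg ρ b y ∧ Bd ρ σ (y * u z.1 z.2)) _ fun y => ?_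
    by_cases hd : Dg ρ b y
    · have : {z : F × F | ¬ Dg ρ b y ∧ Bd ρ σ (y * u z.1 z.2)} = ∅ := by
        ext z
        simp [hd]
      rw [this, Set.ncard_empty]
      exact Nat.zero_le _
    · refine (Set.ncard_le_ncard (t := {z : F × F | Bd ρ σ (y * u z.1 z.2)}) (fun z hz => hz.2) (Set.toFinite _)).trans ?_
      have := bad_u h hW hf hq hu y hd
      rwa [← hq] at this
  have h5 := card_Dg h
  rw [h1, h3] at h2
  have hq0 : 0 < q := by rw [hq]; positivity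
  have h6 : q * (q * Nat.card {y : G // Bd ρ σ y}) ≤ q * ((1536 + 2 * f) * Nat.card G) := by
    calc q * (q * Nat.card {y : G // Bd ρ σ y}) = Nat.card {y : G // Bd ρ σ y} * (q * q) := by ring
      _ ≤ Nat.card {y : G // Dg ρ b y} * (q * q) + Nat.card G * (2 * (f * q)) := h2.trans (Nat.add_le_add_left h4 _)
      _ = q * (q * Nat.card {y : G // Dg ρ b y}) + q * ((2 * f) * Nat.card G) := by ring
      _ ≤ q * (1536 * Nat.card G) + q * ((2 * f) * Nat.card G) := Nat.add_le_add_right (Nat.mul_le_mul_left _ h5) _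
      _ = _ := by ring
  exact Nat.le_of_mul_le_mul_left h6 hq0

theorem two_pow_sqrt (f : ℕ) : f ≤ 2 * Nat.sqrt (2 ^ f) := by
  have h1 : 2 ^ (f / 2) ≤ Nat.sqrt (2 ^ f) := by
    rw [Nat.le_sqrt', ← pow_mul]
    exact Nat.pow_le_pow_right (by norm_num) (by omega)
  have h2 : f / 2 < 2 ^ (f / 2) := Nat.lt_two_pow_self
  omega

/-- **the count for `Sp_4(2^f)`** -/
theorem cnt4 : ∃ C : ℕ, ∀ (q : ℕ) (K : Type) [Field K] (F : Subfield K) (V : Type) [AddCommGroup V] [Module K V]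
    (B : LinearMap.BilinForm K V) (G : Type) [Group G] (ρ : G →* Module.End K V)
    (b : Module.Basis (Fin 2 ⊕ Fin 2) K V) (W : Type) [AddCommGroup W] [Module K W] (σ : G →* Module.End K W)
    (π : Lam0 B →ₗ[K] W), SpD 2 q F B ρ b → WD B ρ σ π →
    Nat.sqrt q * Nat.card {y : G // ∃ j : ℕ, LinearMap.trace K W (σ y) = (LinearMap.trace K V (ρ y)) ^ 2 ^ j} ≤
      C * Nat.card G := by
  refine ⟨1536 + 4, fun q K _ F V _ _ B G _ ρ b W _ _ σ π h hW => ?_⟩
  have := h.finF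
  have := h.char
  have := Fintype.ofFinite F
  have h2 : CharP F 2 := F.subtype.charP F.subtype.injective 2
  obtain ⟨n, -, hn⟩ := FiniteField.card F 2
  have hq : q = 2 ^ (n : ℕ) := by rw [← h.cardF, Nat.card_eq_fintype_card, hn]
  have h3 := card_bad_le h hW n.pos hq
  set f := (n : ℕ) with hf
  set N := Nat.card {y : G // ∃ j : ℕ, LinearMap.trace K W (σ y) = (LinearMap.trace K V (ρ y)) ^ 2 ^ j} with hN
  have h3' : q * N ≤ (1536 + 2 * f) * Nat.card G := h3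
  have hq0 : 0 < q := by rw [hq]; positivity
  have hs1 : Nat.sqrt q ≤ q := Nat.sqrt_le_self _
  have hs2 : Nat.sqrt q * Nat.sqrt q ≤ q := Nat.sqrt_le q
  have hs3 : f ≤ 2 * Nat.sqrt q := by rw [hq]; exact two_pow_sqrt f
  have h4 : Nat.sqrt q * (1536 + 2 * f) ≤ (1536 + 4) * q := by
    calc Nat.sqrt q * (1536 + 2 * f) ≤ Nat.sqrt q * (1536 + 2 * (2 * Nat.sqrt q)) :=
          Nat.mul_le_mul_left _ (by omega)
      _ = 1536 * Nat.sqrt q + 4 * (Nat.sqrt q * Nat.sqrt q) := by ring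
      _ ≤ 1536 * q + 4 * q := Nat.add_le_add (Nat.mul_le_mul_left _ hs1) (Nat.mul_le_mul_left _ hs2)
      _ = _ := by ring
  refine (Nat.mul_le_mul_left_iff hq0).1 ?_
  calc q * (Nat.sqrt q * N) = Nat.sqrt q * (q * N) := by ring
    _ ≤ Nat.sqrt q * ((1536 + 2 * f) * Nat.card G) := Nat.mul_le_mul_left _ h3'
    _ = (Nat.sqrt q * (1536 + 2 * f)) * Nat.card G := by ring
    _ ≤ ((1536 + 4) * q) * Nat.card G := Nat.mul_le_mul_right _ h4
    _ = q * ((1536 + 4) * Nat.card G) := by ring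

end Final

end Cfsg.Agent.H124.BR

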