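import Cfsg.Agent.H427.Sg.Res
import Cfsg.Agent.H264.FKS.SpFour
import Cfsg.Agent.H381.SzSpec
import Cfsg.Agent.H688.Sp4.Odd

/-!
# S3938 / S5715: `Spr (PSp_4(q))`, `q ≥ 4` even (helper124)

`s` of order `q² + 1`; the overgroups are `O₄⁻(q)` and `Sp₂(q²).2` (`spr_singer`); no overgroup has the socle `Sz(q)`.
-/

set_option autoImplicit false
set_option linter.unusedSectionVars false

namespace Cfsg.Agent.H124.BR.Spr4

open Module Cfsg Cfsg.Geo Cfsg.Agent.H951 Cfsg.Agent.H427.Fc Cfsg.Agent.H424.Spr Cfsg.Agent.H427.Sg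
open Cfsg.Agent.ClassicalGeometry.SympBasic Cfsg.Agent.H876 Cfsg.Agent.H931 Cfsg.Agent.H262.El
open scoped Matrix MatrixGroups Pointwise

variable {F : Type} [Field F] [Fintype F]

theorem lt_two_pow_aux {k : ℕ} (hk : 1 ≤ k) : 2 * k + 2 ≤ 2 ^ (k + 1) := by
  induction k, hk using Nat.le_induction with
  | base => norm_num
  | succ n hn ih => rw [pow_succ]; omega

/-- the arithmetic -/
theorem arith {k i N : ℕ} (hk : 1 ≤ k) (hi : i ∣ 2 * k + 1) (hd : (2 ^ (2 * k + 1)) ^ 2 + 1 ∣ i * N)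
    (hN : N ∣ 4 ∨ N ∣ 2 ^ (2 * k + 1) - 1 ∨ N ∣ 2 ^ (2 * k + 1) + 2 ^ (k + 1) + 1 ∨
      N ∣ 2 ^ (2 * k + 1) - 2 ^ (k + 1) + 1) : False := by
  have h1 := lt_two_pow_aux hk
  have hi' : i ≤ 2 * k + 1 := Nat.le_of_dvd (by omega) hi
  have hi0 : 0 < i := Nat.pos_of_dvd_of_pos hi (by omega)
  set r := 2 ^ (k + 1) with hr
  have hr4 : 4 ≤ r := by omega
  have hqr : 2 * 2 ^ (2 * k + 1) = r * r := by
    rw [hr, ← pow_succ', ← pow_add]; congr 1; omega
  set q := 2 ^ (2 * k + 1) with hq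
  have hqr2 : 2 * r ≤ q := by nlinarith
  have hir : i < r := by omega
  rcases hN with h | h | h | h
  · have hN4 : N ≤ 4 := Nat.le_of_dvd (by norm_num) h
    have hN0 : 0 < N := Nat.pos_of_dvd_of_pos h (by norm_num)
    have h2 := Nat.le_of_dvd (Nat.mul_pos hi0 hN0) hd
    nlinarith
  · have hN1 : N ≤ q - 1 := Nat.le_of_dvd (by omega) h
    have hN0 : 0 < N := Nat.pos_of_dvd_of_pos h (by omega)
    have h2 := Nat.le_of_dvd (Nat.mul_pos hi0 hN0) hd
    have h3 : i * N ≤ q * q := Nat.mul_le_mul (by omega) (by omega)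
    nlinarith
  · have h2 := hd.trans (Nat.mul_dvd_mul_left i h)
    have h3 : q ^ 2 + 1 = (q + r + 1) * (q - r + 1) := by
      obtain ⟨d, hd'⟩ := Nat.exists_eq_add_of_le (show r ≤ q by omega)
      have h4 : q - r = d := by omega
      rw [h4, hd']
      have h5 : 2 * (r + d) = r * r := by rw [← hd']; exact hqr
      nlinarith
    rw [h3, mul_comm i] at h2
    have h4 := Nat.dvd_of_mul_dvd_mul_left (by omega) h2
    have h5 := Nat.le_of_dvd hi0 h4
    omega
  · have h2 := hd.trans (Nat.mul_dvd_mul_left i h)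
    have h3 : q ^ 2 + 1 = (q - r + 1) * (q + r + 1) := by
      obtain ⟨d, hd'⟩ := Nat.exists_eq_add_of_le (show r ≤ q by omega)
      have h4 : q - r = d := by omega
      rw [h4, hd']
      have h5 : 2 * (r + d) = r * r := by rw [← hd']; exact hqr
      nlinarith
    rw [h3, mul_comm i] at h2
    have h4 := Nat.dvd_of_mul_dvd_mul_left (by omega) h2
    have h5 := Nat.le_of_dvd hi0 h4
    omega

/-- **no residual overgroup of a Singer cycle** -/
theorem hres_two (heven : ¬ Odd (Fintype.card F)) (h4 : 4 ≤ Fintype.card F)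
    {s : Matrix.symplecticGroup (Fin 2) F} (h : Sng F 2 s) (K : Subgroup (PSp 2 F)) (hK : IsCoatom K)
    (hsK : (QuotientGroup.mk s : PSp 2 F) ∈ K) : ¬ InSymplecticResidualClass (pre K) := by
  intro hS
  obtain ⟨P, k, hP, hk, hF, ⟨e⟩⟩ := S5791.result heven h4 (pre K) (H427.Sg.isMaximalIn_pre hK) hS
  obtain ⟨S, h1, h2, h3, h4', ⟨e'⟩⟩ := H264.FKS.exists_socle (spToGL 2 F) spToGL_injective
    (QuotientGroup.mk' (Subgroup.center (Matrix.symplecticGroup (Fin 2) F))) (QuotientGroup.mk'_surjective _)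
    H264.FKS.hker_sp (M := K) hP
  have hO : Nat.card (Cfsg.Out S) = 2 * k + 1 := by
    rw [H934.OutB.card_out_congr (e'.trans e)]
    exact S2126.result hk hF
  have hidx : S.index ∣ 2 * k + 1 := by
    have h5 := H264.FKS.dvd_aut S h4'
    rw [← H934.OutB.card_out_mul S h3, hO, ← S.index_mul_card] at h5
    exact Nat.dvd_of_mul_dvd_mul_right Nat.card_pos h5
  have hev : Even (Fintype.card F) := Nat.not_odd_iff_even.1 heven
  have hos : orderOf (QuotientGroup.mk s : PSp 2 F) = Fintype.card F ^ 2 + 1 := by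
    rw [← h.ord, ← (spmEquiv (F := F) (m := 2) (by norm_num) hev).orderOf_eq s]
    rfl
  let x : K := ⟨QuotientGroup.mk s, hsK⟩
  have hox : orderOf x = Fintype.card F ^ 2 + 1 := by rw [← hos, ← Subgroup.orderOf_coe]
  have hxS : x ^ S.index ∈ S := Subgroup.pow_index_mem S x
  let y : S := ⟨x ^ S.index, hxS⟩
  have hy : (x ^ S.index) ^ orderOf y = 1 := congrArg Subtype.val (pow_orderOf_eq_one y)
  rw [← pow_mul] at hy
  have hd : (2 ^ (2 * k + 1)) ^ 2 + 1 ∣ S.index * orderOf y := by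
    rw [← hF, ← hox]
    exact orderOf_dvd_of_pow_eq_one hy
  have hoy : orderOf ((e'.trans e) y) = orderOf y := (e'.trans e).orderOf_eq y
  refine arith hk hidx hd ?_
  rcases H381.SzSpec.spec hk hF ((e'.trans e) y) with h5 | ⟨n, hn, h5⟩
  · left; rwa [hoy] at h5
  · right
    rw [hoy] at h5
    rcases (H98.SzPartition.mem_torusOrders_iff k n).1 hn with rfl | rfl | rfl
    · exact Or.inl h5
    · exact Or.inr (Or.inl h5)
    · exact Or.inr (Or.inr h5)

/-- **`Spr (PSp_4(q))`, `q ≥ 4` even.** -/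
theorem spr_psp4_even (heven : ¬ Odd (Fintype.card F)) (h4 : 4 ≤ Fintype.card F) : Spr (PSp 2 F) := by
  have hs : IsSimpleGroup (PSp 2 F) := Cfsg.Agent.S0270.result 2 le_rfl (fun _ => by omega)
  obtain ⟨s, h⟩ := Sng.exists (F := F) (m := 2) (by norm_num)
  exact spr_singer (H688.Sp4.nonab (by omega)) le_rfl (by rintro ⟨-, h⟩; omega) (by rintro ⟨h, -⟩; omega) heven Nat.prime_two dvd_rfl
    (fun r hr hrd => (Nat.prime_dvd_prime_iff_eq hr Nat.prime_two).1 hrd) h (hres_two heven h4 h)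

end Cfsg.Agent.H124.BR.Spr4
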