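import Mathlib
import Cfsg.Agent.H917.FP.Basic

/-!
# Union bounds for non-generating pairs (helper124)

`M l` (`l ∈ L`) subgroups of `G` such that every proper subgroup is contained in a conjugate of one of them,
`fpr (G ⧸ M l) {x} ≤ δ`:

* `card_miss_le` : at most `|L| δ |G|` elements `y` do not generate `G` together with `x`;
* `card_missC_le` : at most `|Z| |G| + |L| δ |G|²` pairs `(x, y)` do not satisfy `⟨x, y x y⁻¹⟩ = G`, `Z` the set of the
  elements for which the hypothesis fails.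
-/

set_option autoImplicit false

namespace Cfsg.Agent.H124.BR

open Cfsg.Agent.H917.FP

universe u v

variable {G : Type u} [Group G] [Finite G]

/-- every proper subgroup fixes a point of one of the coset spaces -/
def Cov {L : Type v} (M : L → Subgroup G) : Prop :=
  ∀ H : Subgroup G, H ≠ ⊤ → ∃ (l : L) (c : G ⧸ M l), ∀ h ∈ H, h • c = c

theorem card_stab (M : Subgroup G) (c : G ⧸ M) : Nat.card {y : G // y • c = c} = Nat.card M := by
  have h1 : Nat.card {y : G // y • c = c} = Nat.card (MulAction.stabilizer G c) := rfl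
  have h2 : Nat.card (MulAction.stabilizer G c) * Nat.card (G ⧸ M) = Nat.card G := by
    have h4 : Nat.card (MulAction.orbit G c) * Nat.card (MulAction.stabilizer G c) = Nat.card G := by
      rw [← Nat.card_prod]
      exact Nat.card_congr (MulAction.orbitProdStabilizerEquivGroup G c)
    rw [MulAction.orbit_eq_univ, Nat.card_univ] at h4
    rw [mul_comm, h4]
  have h3 : Nat.card M * Nat.card (G ⧸ M) = Nat.card G := by
    rw [mul_comm]
    exact (Subgroup.card_eq_card_quotient_mul_card_subgroup M).symm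
  have h4 : 0 < Nat.card (G ⧸ M) := Nat.card_pos
  rw [h1]
  exact Nat.eq_of_mul_eq_mul_right h4 (h2.trans h3.symm)

theorem card_trans (M : Subgroup G) (c c' : G ⧸ M) : Nat.card {y : G // y • c' = c} = Nat.card M := by
  obtain ⟨g, rfl⟩ := MulAction.exists_smul_eq G c c'
  rw [← card_stab M c]
  refine Nat.card_congr ⟨fun y => ⟨y.1 * g, by rw [mul_smul]; exact y.2⟩,
    fun y => ⟨y.1 * g⁻¹, by rw [mul_smul, inv_smul_smul]; exact y.2⟩, fun y => ?_, fun y => ?_⟩
  · simp
  · simp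

theorem fix_mul (M : Subgroup G) (x : G) :
    (Nat.card {c : G ⧸ M // x • c = c} : ℝ) * Nat.card M = fpr (G ⧸ M) {x} * Nat.card G := by
  have h3 : Nat.card (G ⧸ M) * Nat.card M = Nat.card G := (Subgroup.card_eq_card_quotient_mul_card_subgroup M).symm
  have h4 : (0 : ℝ) < Nat.card (G ⧸ M) := by exact_mod_cast Nat.card_pos
  have h5 : Nat.card {w : G ⧸ M // ∀ a ∈ ({x} : Set G), a • w = w} = Nat.card {c : G ⧸ M // x • c = c} :=
    Nat.card_congr (Equiv.subtypeEquivRight fun w => by simp)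
  unfold fpr
  rw [h5, ← h3]
  push_cast
  field_simp

theorem card_miss_le {L : Type v} [Finite L] {M : L → Subgroup G} (hM : Cov M) {δ : ℝ} {x : G}
    (hx : ∀ l, fpr (G ⧸ M l) {x} ≤ δ) :
    (Nat.card {y : G // Subgroup.closure {x, y} ≠ ⊤} : ℝ) ≤ Nat.card L * δ * Nat.card G := by
  classical
  have := Fintype.ofFinite L
  have key : ∀ y : {y : G // Subgroup.closure {x, y} ≠ ⊤},
      ∃ t : Σ l : L, Σ c : {c : G ⧸ M l // x • c = c}, {y : G // y • c.1 = c.1}, t.2.2.1 = y.1 := by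
    intro y
    obtain ⟨l, c, hc⟩ := hM _ y.2
    exact ⟨⟨l, ⟨c, hc x (Subgroup.subset_closure (by simp))⟩, ⟨y.1, hc y.1 (Subgroup.subset_closure (by simp))⟩⟩, rfl⟩
  choose f hf using key
  have hinj : Function.Injective f := by
    intro a b hab
    apply Subtype.ext
    rw [← hf a, ← hf b, hab]
  have h1 := Nat.card_le_card_of_injective f hinj
  have h2 : Nat.card (Σ l : L, Σ c : {c : G ⧸ M l // x • c = c}, {y : G // y • c.1 = c.1}) =
      ∑ l : L, Nat.card {c : G ⧸ M l // x • c = c} * Nat.card (M l) := by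
    rw [Nat.card_sigma]
    refine Finset.sum_congr rfl fun l _ => ?_
    have := Fintype.ofFinite {c : G ⧸ M l // x • c = c}
    rw [Nat.card_sigma]
    simp only [card_stab]
    rw [Finset.sum_const, Finset.card_univ, smul_eq_mul, ← Nat.card_eq_fintype_card]
  rw [h2] at h1
  have h3 : (Nat.card {y : G // Subgroup.closure {x, y} ≠ ⊤} : ℝ) ≤
      ∑ l : L, (Nat.card {c : G ⧸ M l // x • c = c} : ℝ) * Nat.card (M l) := by exact_mod_cast h1
  refine h3.trans ?_
  have h4 : ∀ l ∈ (Finset.univ : Finset L), (Nat.card {c : G ⧸ M l // x • c = c} : ℝ) * Nat.card (M l) ≤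
      δ * Nat.card G := by
    intro l _
    rw [fix_mul]
    exact mul_le_mul_of_nonneg_right (hx l) (Nat.cast_nonneg _)
  refine (Finset.sum_le_sum h4).trans ?_
  rw [Finset.sum_const, Finset.card_univ, nsmul_eq_mul, ← Nat.card_eq_fintype_card, mul_assoc]

/-- Burnside for a transitive action -/
theorem sum_fix (M : Subgroup G) [Fintype G] :
    ∑ x : G, Nat.card {c : G ⧸ M // x • c = c} = Nat.card G := by
  classical
  have := Fintype.ofFinite (G ⧸ M)
  have h1 : ∑ x : G, Nat.card {c : G ⧸ M // x • c = c} = Nat.card (Σ x : G, {c : G ⧸ M // x • c = c}) := by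
    rw [Nat.card_sigma]
  have h2 : Nat.card (Σ x : G, {c : G ⧸ M // x • c = c}) = Nat.card (Σ c : G ⧸ M, {x : G // x • c = c}) :=
    Nat.card_congr ⟨fun t => ⟨t.2.1, t.1, t.2.2⟩, fun t => ⟨t.2.1, t.1, t.2.2⟩, fun _ => rfl, fun _ => rfl⟩
  rw [h1, h2, Nat.card_sigma]
  simp only [card_stab]
  rw [Finset.sum_const, Finset.card_univ, smul_eq_mul, ← Nat.card_eq_fintype_card]
  exact (Subgroup.card_eq_card_quotient_mul_card_subgroup M).symm

theorem card_missC_le {L : Type v} [Finite L] {M : L → Subgroup G} (hM : Cov M) {δ : ℝ} (hδ : 0 ≤ δ) (Z : Set G)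
    (hx : ∀ x, x ∉ Z → ∀ l, fpr (G ⧸ M l) {x} ≤ δ) :
    (Nat.card {p : G × G // Subgroup.closure {p.1, p.2 * p.1 * p.2⁻¹} ≠ ⊤} : ℝ) ≤
      Nat.card Z * Nat.card G + Nat.card L * δ * (Nat.card G : ℝ) ^ 2 := by
  classical
  have := Fintype.ofFinite L
  have := Fintype.ofFinite G
  -- the triples
  let T : L → Type u := fun l => Σ x : {x : G // x ∉ Z}, Σ c : {c : G ⧸ M l // x.1 • c = c},
    Σ c' : {c : G ⧸ M l // x.1 • c = c}, {y : G // y • c'.1 = c.1}
  have key : ∀ p : {p : G × G // Subgroup.closure {p.1, p.2 * p.1 * p.2⁻¹} ≠ ⊤},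
      ∃ t : (Z × G) ⊕ (Σ l : L, T l), Sum.elim (fun z => (z.1.1, z.2)) (fun t => (t.2.1.1, t.2.2.2.2.1)) t = p.1 := by
    intro p
    by_cases hZ : p.1.1 ∈ Z
    · exact ⟨Sum.inl (⟨p.1.1, hZ⟩, p.1.2), rfl⟩
    · obtain ⟨l, c, hc⟩ := hM _ p.2
      have h1 : p.1.1 • c = c := hc _ (Subgroup.subset_closure (by simp))
      have h2 : (p.1.2 * p.1.1 * p.1.2⁻¹) • c = c := hc _ (Subgroup.subset_closure (by simp))
      have h3 : p.1.1 • (p.1.2⁻¹ • c) = p.1.2⁻¹ • c := by
        rw [mul_smul, mul_smul] at h2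
        rw [eq_inv_smul_iff]
        exact h2
      exact ⟨Sum.inr ⟨l, ⟨p.1.1, hZ⟩, ⟨c, h1⟩, ⟨p.1.2⁻¹ • c, h3⟩, ⟨p.1.2, smul_inv_smul _ _⟩⟩, rfl⟩
  choose f hf using key
  have hinj : Function.Injective f := by
    intro a b hab
    apply Subtype.ext
    rw [← hf a, ← hf b, hab]
  have h1 := Nat.card_le_card_of_injective f hinj
  have hT : ∀ l, (Nat.card (T l) : ℝ) ≤ δ * (Nat.card G : ℝ) ^ 2 := by
    intro l
    have e1 : (Nat.card (T l) : ℝ) = ∑ x : {x : G // x ∉ Z}, (Nat.card {c : G ⧸ M l // x.1 • c = c} : ℝ) *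
        ((Nat.card {c : G ⧸ M l // x.1 • c = c} : ℝ) * Nat.card (M l)) := by
      have e2 : Nat.card (T l) = ∑ x : {x : G // x ∉ Z}, Nat.card {c : G ⧸ M l // x.1 • c = c} *
        (Nat.card {c : G ⧸ M l // x.1 • c = c} * Nat.card (M l)) := by
        show Nat.card (Σ x : {x : G // x ∉ Z}, Σ c : {c : G ⧸ M l // x.1 • c = c},
          Σ c' : {c : G ⧸ M l // x.1 • c = c}, {y : G // y • c'.1 = c.1}) = _
        rw [Nat.card_sigma]
        refine Finset.sum_congr rfl fun x _ => ?_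
        have := Fintype.ofFinite {c : G ⧸ M l // x.1 • c = c}
        rw [Nat.card_sigma]
        have e3 : ∀ c : {c : G ⧸ M l // x.1 • c = c},
            Nat.card (Σ c' : {c : G ⧸ M l // x.1 • c = c}, {y : G // y • c'.1 = c.1}) =
              Nat.card {c : G ⧸ M l // x.1 • c = c} * Nat.card (M l) := by
          intro c
          rw [Nat.card_sigma]
          simp only [card_trans]
          rw [Finset.sum_const, Finset.card_univ, smul_eq_mul, ← Nat.card_eq_fintype_card]
        simp only [e3]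
        rw [Finset.sum_const, Finset.card_univ, smul_eq_mul, ← Nat.card_eq_fintype_card]
      rw [e2]
      push_cast
      rfl
    rw [e1]
    have e4 : ∀ x ∈ (Finset.univ : Finset {x : G // x ∉ Z}), (Nat.card {c : G ⧸ M l // x.1 • c = c} : ℝ) *
        ((Nat.card {c : G ⧸ M l // x.1 • c = c} : ℝ) * Nat.card (M l)) ≤
        (Nat.card {c : G ⧸ M l // x.1 • c = c} : ℝ) * (δ * Nat.card G) := by
      intro x _
      rw [fix_mul]
      have := hx x.1 x.2 l
      gcongr
    refine (Finset.sum_le_sum e4).trans ?_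
    rw [← Finset.sum_mul]
    have e5 : (∑ x : {x : G // x ∉ Z}, (Nat.card {c : G ⧸ M l // x.1 • c = c} : ℝ)) ≤ Nat.card G := by
      have e6 : ∑ x : {x : G // x ∉ Z}, Nat.card {c : G ⧸ M l // x.1 • c = c} ≤ Nat.card G := by
        rw [← sum_fix (M l)]
        rw [← Finset.sum_subtype (Finset.univ.filter fun x : G => x ∉ Z) (by simp)
          (fun x => Nat.card {c : G ⧸ M l // x • c = c})]
        exact Finset.sum_le_sum_of_subset (Finset.filter_subset _ _)
      exact_mod_cast e6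
    have e7 : (0 : ℝ) ≤ δ * Nat.card G := by positivity
    calc (∑ x : {x : G // x ∉ Z}, (Nat.card {c : G ⧸ M l // x.1 • c = c} : ℝ)) * (δ * Nat.card G)
        ≤ Nat.card G * (δ * Nat.card G) := mul_le_mul_of_nonneg_right e5 e7
      _ = δ * (Nat.card G : ℝ) ^ 2 := by ring
  have h2 : Nat.card ((Z × G) ⊕ (Σ l : L, T l)) = Nat.card Z * Nat.card G + ∑ l : L, Nat.card (T l) := by
    rw [Nat.card_sum, Nat.card_prod, Nat.card_sigma]
  rw [h2] at h1
  have h3 : (Nat.card {p : G × G // Subgroup.closure {p.1, p.2 * p.1 * p.2⁻¹} ≠ ⊤} : ℝ) ≤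
      Nat.card Z * Nat.card G + ∑ l : L, (Nat.card (T l) : ℝ) := by exact_mod_cast h1
  refine h3.trans ?_
  gcongr
  refine (Finset.sum_le_sum fun l _ => hT l).trans ?_
  rw [Finset.sum_const, Finset.card_univ, nsmul_eq_mul, ← Nat.card_eq_fintype_card, mul_assoc]

/-- from a labelling of the maximal subgroups -/
theorem exists_cov {L : Type v} (R : Subgroup G → L → Prop)
    (h1 : ∀ M : Subgroup G, IsCoatom M → ∃ l, R M l)
    (h2 : ∀ (l : L) (M M' : Subgroup G), IsCoatom M → IsCoatom M' → R M l → R M' l →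
      ∃ g : G, ∀ h, h ∈ M ↔ g * h * g⁻¹ ∈ M') :
    ∃ (L' : Set L) (M : L' → Subgroup G), Cov M ∧ ∀ l, IsCoatom (M l) := by
  classical
  refine ⟨{l | ∃ M : Subgroup G, IsCoatom M ∧ R M l}, fun l => l.2.choose, ?_, fun l => l.2.choose_spec.1⟩
  intro H hH
  obtain ⟨M, hM, hHM⟩ := (eq_top_or_exists_le_coatom H).resolve_left hH
  obtain ⟨l, hl⟩ := h1 M hM
  let l' : {l | ∃ M : Subgroup G, IsCoatom M ∧ R M l} := ⟨l, M, hM, hl⟩
  obtain ⟨g, hg⟩ := h2 l M l'.2.choose hM l'.2.choose_spec.1 hl l'.2.choose_spec.2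
  refine ⟨l', ((g⁻¹ : G) : G ⧸ l'.2.choose), fun h hh => ?_⟩
  have h3 : g * h * g⁻¹ ∈ l'.2.choose := (hg h).1 (hHM hh)
  have h4 : h • ((g⁻¹ : G) : G ⧸ l'.2.choose) = ((h * g⁻¹ : G) : G ⧸ l'.2.choose) := rfl
  rw [h4, eq_comm, QuotientGroup.eq]
  simpa [mul_assoc] using h3

end Cfsg.Agent.H124.BR
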